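import Cfsg.Agent.H809.SylA
import Cfsg.Agent.H809.SylA2
import Cfsg.Agent.H809.SylB
import Cfsg.Agent.H809.SylC
import Cfsg.Agent.H809.SylON
import Cfsg.Agent.H868.SelfN23
import Cfsg.Agent.QTNorm.SporM22S
import Cfsg.Agent.QTNorm.SporM12
import Cfsg.Agent.QTNorm.SporRu
import Cfsg.Agent.QTNorm.SporHS
import Cfsg.Agent.QTNorm.SporJ4
import Cfsg.Agent.H768.SelfTits
import Cfsg.Agent.H512.SylTwo
import Cfsg.Agent.H123.SporSimple
import Cfsg.Agent.NotCT.Orders
import Cfsg.Prelude.Def_Classification2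

/-!
# Numbers of Sylow subgroups: sporadic groups and the Tits group (helper86, S3932-D)

`row_spor`, `row_tits`: for a prime `p ≥ 5` dividing `|G|`, `p` divides the number of Sylow `r`-subgroups for some `r`.
-/

set_option autoImplicit false

namespace Cfsg.Agent.H86.Syl

open Subgroup Cfsg Cfsg.Agent.H512.SylNum Cfsg.Agent.QTNorm

universe u

variable {G : Type u} [Group G]

theorem fin_of {n : ℕ} (h : Nat.card G = n) (hn : n ≠ 0) : Finite G := Nat.finite_of_card_ne_zero (by rw [h]; exact hn)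

theorem row_tits {G : Type u} [Group G] (h : Cfsg.Lie.IsoTits G) {p : ℕ} [Fact p.Prime] (hp5 : 5 ≤ p)
    (hd : p ∣ Nat.card G) : Row p G := by
  haveI : Finite G := by
    obtain ⟨e⟩ := h
    exact Finite.of_equiv _ e.symm.toEquiv
  exact row_of_selfN (by omega) (H768.SelfTits.selfN_tits h) hd

theorem mem_of_pow_dvd {r : ℕ} (hr : r.Prime) {n : ℕ} (hn : 0 < n) (h : r ^ n ∣ 175560) :
    (r, n) ∈ [(2, 1), (2, 2), (2, 3), (3, 1), (5, 1), (7, 1), (11, 1), (19, 1)] := by
  have h1 : r ∣ 2 * (2 * (2 * (3 * (5 * (7 * (11 * 19)))))) := (dvd_pow_self r hn.ne').trans h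
  have h2 : r ∈ [2, 3, 5, 7, 11, 19] := by
    have q2 := Nat.prime_two
    have q3 := Nat.prime_three
    have q5 := Nat.prime_five
    have q7 : Nat.Prime 7 := by norm_num
    have q11 : Nat.Prime 11 := by norm_num
    have q19 : Nat.Prime 19 := by norm_num
    rw [hr.dvd_mul, hr.dvd_mul, hr.dvd_mul, hr.dvd_mul, hr.dvd_mul, hr.dvd_mul, hr.dvd_mul,
      Nat.prime_dvd_prime_iff_eq hr q2, Nat.prime_dvd_prime_iff_eq hr q3, Nat.prime_dvd_prime_iff_eq hr q5,
      Nat.prime_dvd_prime_iff_eq hr q7, Nat.prime_dvd_prime_iff_eq hr q11, Nat.prime_dvd_prime_iff_eq hr q19] at h1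
    simp only [List.mem_cons, List.not_mem_nil, or_false]
    tauto
  have h3 : n < 18 := by
    by_contra hcon
    have h4 : 2 ^ 18 ≤ r ^ n := (Nat.pow_le_pow_left hr.two_le 18).trans (Nat.pow_le_pow_right hr.pos (by omega))
    have h5 := Nat.le_of_dvd (by norm_num) h
    omega
  have key : ∀ r ∈ [2, 3, 5, 7, 11, 19], ∀ n < 18, 0 < n → r ^ n ∣ 175560 →
      (r, n) ∈ [(2, 1), (2, 2), (2, 3), (3, 1), (5, 1), (7, 1), (11, 1), (19, 1)] := by decide
  exact key r h2 n h3 hn h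

theorem row_j1 (h : Spor.IsoJ1 G) [IsSimpleGroup G] {p : ℕ} [hp : Fact p.Prime] (hp5 : 5 ≤ p)
    (hd : p ∣ Nat.card G) : Row p G := by
  have hc := NotCT.Orders.j1 h
  haveI : Finite G := fin_of hc (by norm_num)
  have hna : ∃ a b : G, a * b ≠ b * a := by
    by_contra hcon
    push Not at hcon
    have h1 : IsCyclic G ∧ (Nat.card G).Prime := by
      let _ : CommGroup G := { (inferInstance : Group G) with mul_comm := hcon }
      exact ⟨inferInstance, IsSimpleGroup.prime_card⟩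
    rw [hc] at h1
    norm_num at h1
  have hp' : (p, 1) ∈ [(2, 1), (2, 2), (2, 3), (3, 1), (5, 1), (7, 1), (11, 1), (19, 1)] :=
    mem_of_pow_dvd hp.out one_pos (by rw [pow_one, ← hc]; exact hd)
  have hp'' : p = 5 ∨ p = 7 ∨ p = 11 ∨ p = 19 := by
    simp only [List.mem_cons, Prod.mk.injEq, List.not_mem_nil, or_false] at hp'
    omega
  obtain ⟨r₀, hr₀, hr₀'⟩ : ∃ r₀ : ℕ, r₀.Prime ∧
      ∀ x ∈ [(2, 1), (2, 2), (2, 3), (3, 1), (5, 1), (7, 1), (11, 1), (19, 1)], x.1 ≠ p → x.1 ≠ r₀ →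
        ¬ p ∣ x.1 ^ x.2 - 1 := by
    rcases hp'' with rfl | rfl | rfl | rfl
    · exact ⟨11, by norm_num, by decide⟩
    · exact ⟨2, by norm_num, by decide⟩
    · exact ⟨2, by norm_num, by decide⟩
    · exact ⟨2, by norm_num, by decide⟩
  refine row_of_one hna hd hr₀ fun r hr hrp hr0 n hn hrn => ?_
  rw [hc] at hrn
  exact hr₀' _ (mem_of_pow_dvd hr hn hrn) hrp hr0

theorem row_spor {G : Type u} [Group G] (h : Cfsg.IsSporadicGroup G) {p : ℕ} [hp : Fact p.Prime] (hp5 : 5 ≤ p)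
    (hd : p ∣ Nat.card G) : Row p G := by
  have hp2 : p ≠ 2 := by omega
  haveI : IsSimpleGroup G := H123.SporSimple.spor_simple h
  rcases h with h | h | h | h | h | h | h | h | h | h | h | h | h | h | h | h | h | h | h | h | h | h | h | h | h | h
  · haveI : Finite G := fin_of (NotCT.Orders.m11 h) (by norm_num)
    exact row_of_selfN hp2 (selfN_m11 h) hd
  · haveI : Finite G := fin_of (NotCT.Orders.m12 h) (by norm_num)
    exact row_of_selfN hp2 (selfN_m12 h) hd
  · haveI : Finite G := fin_of (NotCT.Orders.m22 h) (by norm_num)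
    obtain ⟨e⟩ := h
    haveI : Finite Spor.M22 := Finite.of_equiv _ e.toEquiv
    exact row_of_selfN hp2 (selfN_M22.congr e.symm) hd
  · haveI : Finite G := fin_of (NotCT.Orders.m23 h) (by norm_num)
    obtain ⟨e⟩ := h
    haveI : Finite Spor.M23 := Finite.of_equiv _ e.toEquiv
    exact row_of_selfN hp2 (H868.selfN_M23.congr e.symm) hd
  · haveI : Finite G := fin_of (NotCT.Orders.m24 h) (by norm_num)
    exact row_of_selfN hp2 (selfN_m24 h) hd
  · exact row_j1 h hp5 hd
  · exact row_of_two (H809.Syl.dvd_two_j2 h hp5 hd)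
  · exact row_of_two (H809.Syl.dvd_two_j3 h hp5 hd)
  · haveI : Finite G := fin_of (NotCT.Orders.j4 h) (by norm_num)
    exact row_of_selfN hp2 (JFour.selfN_j4 h) hd
  · exact row_of_two (H809.Syl.dvd_two_co1 h hp5 hd)
  · haveI : Finite G := fin_of (NotCT.Orders.co2 h) (by norm_num)
    obtain ⟨e⟩ := h
    haveI : Finite Spor.Co2 := Finite.of_equiv _ e.toEquiv
    exact Row.congr e.symm (row_of_two (H809.Syl.dvd_two_co2 hp2 (by rwa [← Nat.card_congr e.toEquiv])))
  · exact row_of_two (H809.Syl.dvd_two_co3 h hp5 hd)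
  · exact row_of_two (H809.Syl.dvd_two_mcl h hp5 hd)
  · haveI : Finite G := fin_of (NotCT.Orders.hs h) (by norm_num)
    exact row_of_selfN hp2 (HSRow.selfN_hs h) hd
  · exact row_of_two (H809.Syl.dvd_two_suz h hp5 hd)
  · haveI : Finite G := fin_of (NotCT.Orders.he h) (by norm_num)
    exact row_of_selfN hp2 (selfN_he h) hd
  · haveI : Finite G := fin_of (NotCT.Orders.ru h) (by norm_num)
    exact row_of_selfN hp2 (RuRow.selfN_ru h) hd
  · exact row_of_two (H809.SylON.dvd_two_on h hp5 hd)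
  · exact row_of_two (H809.Syl.dvd_two_ly h hp5 hd)
  · exact row_of_two (H809.Syl.dvd_two_fi22 h hp5 hd)
  · exact row_of_two (H809.Syl.dvd_two_fi23 h hp5 hd)
  · exact row_of_two (H809.Syl.dvd_two_fi24 h hp5 hd)
  · exact row_of_two (H809.Syl.dvd_two_hn h hp5 hd)
  · exact row_of_two (H809.Syl.dvd_two_th h hp5 hd)
  · exact row_of_two (H809.Syl.dvd_two_b h hp5 hd)
  · exact row_of_two (H809.Syl.dvd_two_m h hp5 hd)

end Cfsg.Agent.H86.Syl
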